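import Groth.Agent.Lib.InjHull.Coextend

/-!
# `Hom_A(B, E)` for a finite algebra over a local ring is a sum of hulls
-/

set_option linter.style.haveILetI false

universe u

open InjHull IsLocalRing CategoryTheory

namespace Groth.Agent.CoextHull12

open Groth.Agent.InjHullLib

variable {A B : Type u} [CommRing A] [IsLocalRing A] [IsNoetherianRing A] [CommRing B] [Algebra A B]
  {E : Type u} [AddCommGroup E] [Module A E] {f : ResidueField A →ₗ[A] E}

theorem comap_maximal [Module.Finite A B] (n : Ideal B) [n.IsMaximal] :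
    n.comap (algebraMap A B) = maximalIdeal A :=
  IsLocalRing.eq_maximalIdeal (Ideal.isMaximal_comap_of_isIntegral_of_isMaximal n)

theorem map_le_maximal [Module.Finite A B] (n : Ideal B) [n.IsMaximal] :
    (maximalIdeal A).map (algebraMap A B) ≤ n :=
  Ideal.map_le_iff_le_comap.2 (comap_maximal n).ge

theorem finite_maximalSpectrum [Module.Finite A B] : Finite (MaximalSpectrum B) := by
  haveI : IsNoetherianRing B := IsNoetherianRing.of_finite A B
  have hsub : ∀ n : MaximalSpectrum B, n.asIdeal ∈ ((maximalIdeal A).map (algebraMap A B)).minimalPrimes := by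
    intro n
    haveI := n.isMaximal
    obtain ⟨p, hp, hpn⟩ := Ideal.exists_minimalPrimes_le (map_le_maximal (A := A) n.asIdeal)
    haveI := hp.1.1
    haveI : p.IsMaximal := Ideal.isMaximal_of_isIntegral_of_isMaximal_comap p (by
      have : p.comap (algebraMap A B) = maximalIdeal A :=
        le_antisymm (IsLocalRing.le_maximalIdeal (Ideal.comap_ne_top _ hp.1.1.ne_top))
          (Ideal.map_le_iff_le_comap.1 hp.1.2)
      exact this ▸ (inferInstance : (maximalIdeal A).IsMaximal))
    exact (Ideal.IsMaximal.eq_of_le ‹_› n.isMaximal.ne_top hpn) ▸ hp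
  haveI := (Ideal.finite_minimalPrimes_of_isNoetherianRing B ((maximalIdeal A).map (algebraMap A B))).to_subtype
  exact Finite.of_injective (fun n : MaximalSpectrum B => (⟨n.asIdeal, hsub n⟩ :
    ((maximalIdeal A).map (algebraMap A B)).minimalPrimes)) fun a b h => MaximalSpectrum.ext (congrArg Subtype.val h)

theorem exists_pow_kill [Module.Finite A B] (hf : IsInjectiveHull f)
    (x : (ModuleCat.coextendScalars (algebraMap A B)).obj (ModuleCat.of A E)) :
    ∃ K : ℕ, ∀ r ∈ ((maximalIdeal A).map (algebraMap A B)) ^ K, r • x = 0 := by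
  let φ := coextendToHom x
  obtain ⟨n, s, hs⟩ := Module.Finite.exists_fin (R := A) (M := B)
  choose N hN using fun i => exists_pow_smul_eq_zero hf (φ (s i))
  let K := Finset.univ.sup N
  have hkill : ∀ a ∈ maximalIdeal A ^ K, ∀ b : B, a • φ b = 0 := by
    intro a ha b
    have hb : b ∈ Submodule.span A (Set.range s) := hs.ge trivial
    induction hb using Submodule.span_induction with
    | mem y hy =>
      obtain ⟨i, rfl⟩ := hy
      exact hN i a (Ideal.pow_le_pow_right (Finset.le_sup (f := N) (Finset.mem_univ i)) ha)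
    | zero => rw [map_zero, smul_zero]
    | add p q _ _ hp hq => rw [map_add, smul_add, hp, hq, add_zero]
    | smul r p _ hp => rw [map_smul, smul_comm, hp, smul_zero]
  refine ⟨K, fun r hr => coextendToHom_bijective.1 (LinearMap.ext fun b => ?_)⟩
  rw [coextendToHom_smul, map_zero, LinearMap.zero_apply]
  rw [← Ideal.map_pow] at hr
  have : ∀ b : B, φ (b * r) = 0 := by
    refine Submodule.span_induction (p := fun r _ => ∀ b : B, φ (b * r) = 0) ?_ (fun b => by rw [mul_zero, map_zero])
      (fun p q _ _ hp hq b => by rw [mul_add, map_add, hp, hq, add_zero])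
      (fun t p _ hp b => by rw [smul_eq_mul, ← mul_assoc]; exact hp _) hr
    rintro _ ⟨a, ha, rfl⟩ b
    rw [mul_comm, ← Algebra.smul_def, map_smul, hkill a ha b]
  exact this b

theorem iSupIndep_powTors {X : Type u} [AddCommGroup X] [Module B X] :
    iSupIndep fun n : MaximalSpectrum B => powTors n.asIdeal X := by
  intro n
  rw [Submodule.disjoint_def]
  intro x hx hx'
  obtain ⟨k, hk⟩ := mem_powTors_iff.1 hx
  have key : ∀ y ∈ ⨆ (m : MaximalSpectrum B) (_ : m ≠ n), powTors m.asIdeal X,
      ∃ P : Ideal B, P ⊔ n.asIdeal = ⊤ ∧ ∀ r ∈ P, r • y = 0 := by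
    intro y hy
    induction hy using Submodule.iSup_induction' with
    | mem m y hy =>
      by_cases hm : m = n
      · simp [hm] at hy
        exact ⟨⊤, by simp, fun r _ => by rw [hy, smul_zero]⟩
      · rw [iSup_pos hm] at hy
        obtain ⟨j, hj⟩ := mem_powTors_iff.1 hy
        exact ⟨m.asIdeal ^ j, Ideal.pow_sup_eq_top
          (Ideal.IsMaximal.coprime_of_ne m.isMaximal n.isMaximal fun h => hm (MaximalSpectrum.ext h)), hj⟩
    | zero => exact ⟨⊤, by simp, fun r _ => smul_zero r⟩
    | add y z _ _ hy hz =>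
      obtain ⟨P, hP, hPy⟩ := hy
      obtain ⟨Q, hQ, hQz⟩ := hz
      refine ⟨P * Q, ?_, fun r hr => by
        rw [smul_add, hPy r (Ideal.mul_le_inf hr).1, hQz r (Ideal.mul_le_inf hr).2, add_zero]⟩
      rw [sup_comm, Ideal.sup_mul_eq_of_coprime_left (by rw [sup_comm]; exact hP), sup_comm]
      exact hQ
  obtain ⟨P, hP, hPx⟩ := key x hx'
  have htop : P ⊔ n.asIdeal ^ k = ⊤ := Ideal.sup_pow_eq_top hP
  obtain ⟨a, ha, b, hb, hab⟩ := Submodule.mem_sup.1 (htop.ge (Submodule.mem_top (x := (1 : B))))
  rw [← one_smul B x, ← hab, add_smul, hPx a ha, hk b hb, add_zero]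

theorem iSup_powTors_eq_top [Module.Finite A B] (hf : IsInjectiveHull f) :
    ⨆ n : MaximalSpectrum B,
      powTors n.asIdeal ((ModuleCat.coextendScalars (algebraMap A B)).obj (ModuleCat.of A E)) = ⊤ := by
  classical
  haveI : IsNoetherianRing B := IsNoetherianRing.of_finite A B
  haveI := finite_maximalSpectrum (A := A) (B := B)
  letI := Fintype.ofFinite (MaximalSpectrum B)
  refine eq_top_iff.2 fun x _ => ?_
  obtain ⟨K, hK⟩ := exists_pow_kill hf x
  let M := (maximalIdeal A).map (algebraMap A B)
  have hrad : (⨅ n : MaximalSpectrum B, n.asIdeal) ≤ M.radical := by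
    rw [Ideal.radical_eq_sInf]
    refine le_sInf fun q ⟨hq, hqp⟩ => ?_
    have hqm : q.IsMaximal := Ideal.isMaximal_of_isIntegral_of_isMaximal_comap q (by
      have : q.comap (algebraMap A B) = maximalIdeal A :=
        le_antisymm (IsLocalRing.le_maximalIdeal (Ideal.comap_ne_top _ hqp.ne_top))
          (Ideal.map_le_iff_le_comap.1 hq)
      exact this ▸ (inferInstance : (maximalIdeal A).IsMaximal))
    exact iInf_le (fun n : MaximalSpectrum B => n.asIdeal) ⟨q, hqm⟩
  obtain ⟨c, hc⟩ := Ideal.exists_pow_le_of_le_radical_of_fg hrad (IsNoetherian.noetherian _)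
  let p : MaximalSpectrum B → Ideal B := fun n => n.asIdeal ^ (c * K)
  have hp : ((Finset.univ : Finset (MaximalSpectrum B)) : Set (MaximalSpectrum B)).Pairwise
      fun i j => p i ⊔ p j = ⊤ := fun i _ j _ hij =>
    Ideal.pow_sup_pow_eq_top
      (Ideal.IsMaximal.coprime_of_ne i.isMaximal j.isMaximal fun h => hij (MaximalSpectrum.ext h))
  have hinf : (⨅ n ∈ (Finset.univ : Finset (MaximalSpectrum B)), p n) ≤ M ^ K := by
    refine le_trans (le_of_eq (Ideal.prod_eq_iInf_of_pairwise_isCoprime (fun i hi j hj hij => Ideal.isCoprime_iff_sup_eq.2 (hp hi hj hij))).symm) ?_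
    show ∏ n : MaximalSpectrum B, n.asIdeal ^ (c * K) ≤ _
    rw [Finset.prod_pow, pow_mul]
    refine Ideal.pow_right_mono (le_trans (Ideal.pow_right_mono (le_iInf fun n => ?_) c) hc) K
    exact Ideal.prod_le_inf.trans (Finset.inf_le (Finset.mem_univ n))
  have hmem : x ∈ ⨆ n ∈ (Finset.univ : Finset (MaximalSpectrum B)),
      Submodule.torsionBySet B _ (p n : Set B) := by
    rw [Submodule.iSup_torsionBySet_ideal_eq_torsionBySet_iInf hp, mem_torsion_iff]
    exact fun r hr => hK r (hinf hr)
  refine SetLike.le_def.1 (iSup₂_le (fun n _ => ?_)) hmem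
  exact le_trans (le_iSup (fun j : ℕ => Submodule.torsionBySet B _ ((n.asIdeal ^ j : Ideal B) : Set B)) (c * K))
    (le_iSup (fun n : MaximalSpectrum B =>
      powTors n.asIdeal ((ModuleCat.coextendScalars (algebraMap A B)).obj (ModuleCat.of A E))) n)

theorem exists_hull_powTors [Module.Finite A B] (hf : IsInjectiveHull f) (n : Ideal B) [n.IsMaximal] :
    ∃ g : (B ⧸ n) →ₗ[B] powTors n ((ModuleCat.coextendScalars (algebraMap A B)).obj (ModuleCat.of A E)),
      IsInjectiveHull g := by
  haveI : IsNoetherianRing B := IsNoetherianRing.of_finite A B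
  let X := (ModuleCat.coextendScalars (algebraMap A B)).obj (ModuleCat.of A E)
  let k := B ⧸ n
  letI : Field k := Ideal.Quotient.field n
  let res : B →ₗ[A] k := (Ideal.Quotient.mkₐ A n).toLinearMap
  have hres : Function.Surjective res := Ideal.Quotient.mk_surjective
  haveI : Module.Finite A k := Module.Finite.of_surjective res hres
  have hkill : ∀ a ∈ maximalIdeal A, ∀ c : k, a • c = 0 := by
    intro a ha c
    obtain ⟨b, rfl⟩ := hres c
    rw [← map_smul, Algebra.smul_def]
    exact Ideal.Quotient.eq_zero_iff_mem.2 (n.mul_mem_right b (map_le_maximal n (Ideal.mem_map_of_mem _ ha)))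
  have hfl : IsFiniteLength A k := by
    obtain ⟨d, s, hs⟩ := Module.Finite.exists_fin (R := A) (M := k)
    let p : (Fin d → (A ⧸ maximalIdeal A ^ 1)) →ₗ[A] k :=
      LinearMap.lsum A _ A fun i => Submodule.liftQ _ (LinearMap.toSpanSingleton A k (s i))
        fun a ha => hkill a (by simpa using ha) _
    have hp : Function.Surjective p := by
      rw [← LinearMap.range_eq_top, eq_top_iff, ← hs, Submodule.span_le]
      rintro _ ⟨i, rfl⟩
      exact ⟨Pi.single i (Submodule.Quotient.mk 1), by
        simp [p, Pi.single_apply, apply_ite]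
        exact one_smul A (s i)⟩
    refine Module.length_ne_top_iff.1 (ne_top_of_le_ne_top ?_ (Module.length_le_of_surjective p hp))
    have hfl1 : IsFiniteLength A (A ⧸ maximalIdeal A ^ 1) := InjHullLib.isFiniteLength_quotient le_rfl
    have : IsArtinian A (A ⧸ maximalIdeal A ^ 1) := (isFiniteLength_iff_isNoetherian_isArtinian.1 hfl1).2
    exact Module.length_ne_top
  obtain ⟨ψ, hψ⟩ := exists_dual_ne_zero hf (M := k) (x := (1 : k)) one_ne_zero
  obtain ⟨x₀, hx₀⟩ := (coextendToHom_bijective (A := A) (B := B) (E := E)).2 (ψ ∘ₗ res)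
  have hx₀tor : ∀ r ∈ n, r • x₀ = 0 := fun r hr =>
    coextendToHom_bijective.1 <| LinearMap.ext fun b => by
      rw [coextendToHom_smul, hx₀, map_zero, LinearMap.zero_apply]
      show ψ (res (b * r)) = 0
      rw [show res (b * r) = 0 from Ideal.Quotient.eq_zero_iff_mem.2 (Ideal.mul_mem_left _ b hr), map_zero]
  let g₀ : k →ₗ[B] X := Submodule.liftQ _ (LinearMap.toSpanSingleton B X x₀) fun r hr => hx₀tor r hr
  have hg : ∀ (s b : B), coextendToHom (g₀ (Ideal.Quotient.mk n s)) b = ψ (res (b * s)) := fun s b => by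
    show coextendToHom (s • x₀) b = _
    rw [coextendToHom_smul, hx₀]
    rfl
  have hmem : ∀ c : k, g₀ c ∈ powTors n X := fun c => mem_powTors_iff.2 ⟨1, fun r hr => by
    rw [pow_one] at hr
    rw [← map_smul, InjHullLib.smul_mk_eq_zero hr, map_zero]⟩
  let g := g₀.codRestrict (powTors n X) hmem
  have hginj : Function.Injective g₀ := by
    rw [injective_iff_map_eq_zero]
    intro c hc
    by_contra hc0
    obtain ⟨s, rfl⟩ := Ideal.Quotient.mk_surjective c
    obtain ⟨t, ht⟩ := Ideal.Quotient.mk_surjective (Ideal.Quotient.mk n s)⁻¹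
    have h1 := hg s t
    rw [hc, map_zero, LinearMap.zero_apply] at h1
    refine hψ ?_
    rw [h1]
    exact congrArg ψ (by rw [show res (t * s) = Ideal.Quotient.mk n (t * s) from rfl, map_mul, ht, inv_mul_cancel₀ hc0])
  have hsoc : Submodule.torsionBySet B X (n : Set B) ≤ LinearMap.range g₀ := by
    let G : k →ₗ[A] (k →ₗ[A] E) := (LinearMap.llcomp A k k E ψ).comp (LinearMap.mul A k)
    have hG : Function.Injective G := by
      rw [injective_iff_map_eq_zero]
      intro c hc
      by_contra hc0
      exact hψ (by simpa [G, inv_mul_cancel₀, mul_inv_cancel₀ hc0] using LinearMap.congr_fun hc c⁻¹)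
    have hGs : Function.Surjective G := by
      have h2 := Module.length_eq_add_of_exact (LinearMap.range G).subtype (LinearMap.range G).mkQ
        (Submodule.injective_subtype _) (Submodule.mkQ_surjective _) (LinearMap.exact_subtype_mkQ _)
      rw [← (LinearEquiv.ofInjective G hG).length_eq, length_dual hf hfl] at h2
      have h3 : Module.length A ((k →ₗ[A] E) ⧸ LinearMap.range G) = 0 := by
        have h4 : Module.length A k + Module.length A ((k →ₗ[A] E) ⧸ LinearMap.range G)
            = Module.length A k + 0 := by rw [add_zero]; exact h2.symm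
        exact (WithTop.add_left_inj (Module.length_ne_top_iff.2 hfl)).1 h4
      exact LinearMap.range_eq_top.1 (Submodule.Quotient.subsingleton_iff.1 (Module.length_eq_zero_iff.1 h3))
    intro x hx
    rw [mem_torsion_iff] at hx
    have hker : LinearMap.ker res ≤ LinearMap.ker (coextendToHom x) := fun r hr => by
      have hr' : r ∈ n := Ideal.Quotient.eq_zero_iff_mem.1 hr
      have h1 := coextendToHom_smul x r (1 : B)
      rw [hx r hr', map_zero, LinearMap.zero_apply, one_mul] at h1
      exact h1.symm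
    let χ : k →ₗ[A] E := (Submodule.liftQ _ (coextendToHom x) hker).comp (res.quotKerEquivOfSurjective hres).symm.toLinearMap
    have hχ : ∀ b, χ (res b) = coextendToHom x b := fun b => by
      show Submodule.liftQ _ (coextendToHom x) hker ((res.quotKerEquivOfSurjective hres).symm (res b)) = _
      rw [show (res.quotKerEquivOfSurjective hres).symm (res b) = Submodule.Quotient.mk b by
        rw [LinearEquiv.symm_apply_eq]; rfl]
      rfl
    obtain ⟨c, hc⟩ := hGs χ
    obtain ⟨s, rfl⟩ := Ideal.Quotient.mk_surjective c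
    refine ⟨Ideal.Quotient.mk n s, coextendToHom_bijective.1 (LinearMap.ext fun b => ?_)⟩
    rw [hg, ← hχ, ← hc]
    show ψ (res (b * s)) = ψ (Ideal.Quotient.mk n s * res b)
    rw [show res (b * s) = Ideal.Quotient.mk n s * res b by rw [mul_comm]; exact map_mul (Ideal.Quotient.mk n) s b]
  refine ⟨g, (isEssentialInj_iff g).2 ⟨fun a b h => hginj (congrArg Subtype.val h), fun x hx => ?_⟩,
    injective_powTors (injective_coextend hf.isInjective) n⟩
  obtain ⟨r, hr, hr0⟩ := exists_smul_mem_torsion (J := n) (M := powTors n X) (fun y => by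
    obtain ⟨j, hj⟩ := mem_powTors_iff.1 y.2
    exact ⟨j, fun a ha => Subtype.ext (hj a ha)⟩) hx
  obtain ⟨c, hc⟩ := hsoc (mem_torsion_iff.2 fun a ha => congrArg Subtype.val (mem_torsion_iff.1 hr a ha) :
    ((r • x : powTors n X) : X) ∈ Submodule.torsionBySet B X (n : Set B))
  exact ⟨r, ⟨c, Subtype.ext hc⟩, hr0⟩

end Groth.Agent.CoextHull12
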